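import Cfsg.Agent.EqLemmas

/-!
# The derangement subgroup of a transitive group

Main results, for `D = derGrp G Ω = closure of the derangements`:
* `sum_fix_compl`: orbit counting split along a subgroup.
* `derGrp_normal`, `derGrp_transitive`, `card_fixedBy_eq_one_of_notMem` (outside `D` exactly one
  fixed point), `mem_of_two_fixed`, `rank_formula`.
* `dvd_card_of_stabilizer_le`: if all stabilizers lie in `L` then `[H:L]` divides the degree.
* `stabilizer_derGrp_index`: a subgroup containing a point stabilizer meets `D` in index `[G:D]`.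
-/

namespace Cfsg.Agent.Derangement

open MulAction
open scoped Classical

set_option autoImplicit false

variable {G : Type*} [Group G] {Ω : Type*} [MulAction G Ω]

variable (G Ω) in
/-- The subgroup generated by the derangements. -/
abbrev derGrp : Subgroup G := Subgroup.closure {g : G | ∀ ω : Ω, g • ω ≠ ω}

theorem mem_derGrp_of_forall_ne {g : G} (h : ∀ ω : Ω, g • ω ≠ ω) : g ∈ derGrp G Ω :=
  Subgroup.subset_closure h

instance derGrp_normal : (derGrp G Ω).Normal := by
  refine ⟨fun d hd g => ?_⟩
  have hle : derGrp G Ω ≤ (derGrp G Ω).comap (MulAut.conj g).toMonoidHom := by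
    rw [Subgroup.closure_le]
    intro x hx
    refine Subgroup.subset_closure fun ω h => hx (g⁻¹ • ω) ?_
    simpa [mul_smul, eq_inv_smul_iff] using h
  simpa using hle hd

theorem sum_fix_compl [Finite G] [Fintype G] (X : Type*) [MulAction G X] [Finite X]
    (L : Subgroup G) :
    (∑ g ∈ Finset.univ.filter (fun g : G => g ∉ L), Nat.card (fixedBy X g))
      + Nat.card (orbitRel.Quotient L X) * Nat.card L
      = Nat.card (orbitRel.Quotient G X) * Nat.card G := by
  have : Fintype X := Fintype.ofFinite X
  have hG : ∑ g : G, Nat.card (fixedBy X g)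
      = Nat.card (orbitRel.Quotient G X) * Nat.card G := by
    simp only [Nat.card_eq_fintype_card]
    convert sum_card_fixedBy_eq_card_orbits_mul_card_group G X
  have hL : ∑ g : L, Nat.card (fixedBy X (g : G))
      = Nat.card (orbitRel.Quotient L X) * Nat.card L := by
    have := sum_card_fixedBy_eq_card_orbits_mul_card_group L X
    simp only [← Nat.card_eq_fintype_card] at this
    exact this
  rw [← hG, ← hL, ← Finset.sum_filter_add_sum_filter_not Finset.univ (fun g : G => g ∉ L)]
  congr 1
  simp only [not_not]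
  exact (Finset.sum_subtype (Finset.univ.filter (fun g : G => g ∈ L)) (by simp)
    (fun g => Nat.card (fixedBy X g))).symm

theorem card_orbits_eq_one {X : Type*} [MulAction G X] [Nonempty X] [IsPretransitive G X] :
    Nat.card (orbitRel.Quotient G X) = 1 := by
  rw [Nat.card_eq_one_iff_unique]
  refine ⟨⟨fun a b => ?_⟩, ⟨Quotient.mk'' (Classical.arbitrary X)⟩⟩
  induction a using Quotient.inductionOn'
  induction b using Quotient.inductionOn'
  exact Quotient.sound' (mem_orbit_iff.2 (exists_smul_eq G _ _))

theorem one_le_card_fixedBy [Finite Ω] {g : G} (h : ¬ ∀ ω : Ω, g • ω ≠ ω) :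
    1 ≤ Nat.card (fixedBy Ω g) := by
  simp only [not_forall, not_not] at h
  obtain ⟨ω, hω⟩ := h
  have : Nonempty (fixedBy Ω g) := ⟨⟨ω, hω⟩⟩
  exact Nat.card_pos

variable [Finite G] [Finite Ω]

/-- If a subgroup `L` is transitive and every element outside `L` fixes at most one point, then
every element outside `L` fixes exactly one point. -/
theorem card_fixedBy_eq_one_of_le_one (L : Subgroup G) [Nonempty Ω] [IsPretransitive L Ω]
    (hle : ∀ g ∉ L, Nat.card (fixedBy Ω g) ≤ 1) {g : G} (hg : g ∉ L) :
    Nat.card (fixedBy Ω g) = 1 := by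
  have : Fintype G := Fintype.ofFinite G
  have : IsPretransitive G Ω :=
    ⟨fun x y => (exists_smul_eq L x y).elim fun l hl => ⟨(l : G), hl⟩⟩
  have h := sum_fix_compl Ω L
  rw [card_orbits_eq_one, card_orbits_eq_one] at h
  have hcard : (Finset.univ.filter (fun g : G => g ∉ L)).card + Nat.card L = Nat.card G := by
    rw [Nat.card_eq_fintype_card, Nat.card_eq_fintype_card,
      Fintype.card_of_subtype (Finset.univ.filter (fun g : G => g ∈ L)) (by simp),
      add_comm, Finset.card_filter_add_card_filter_not, Finset.card_univ]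
  by_contra hne
  have hlt : (∑ x ∈ Finset.univ.filter (fun g : G => g ∉ L), Nat.card (fixedBy Ω x))
      < (Finset.univ.filter (fun g : G => g ∉ L)).card := by
    rw [Finset.card_eq_sum_ones]
    refine Finset.sum_lt_sum (fun x hx => hle x (by simpa using hx)) ⟨g, by simpa using hg, ?_⟩
    have := hle g hg
    omega
  omega

variable [htr : IsPretransitive G Ω]

theorem derGrp_transitive : IsPretransitive (derGrp G Ω) Ω := by
  rcases isEmpty_or_nonempty Ω with h | h
  · exact ⟨fun x => isEmptyElim x⟩
  have : Fintype G := Fintype.ofFinite G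
  have h1 := sum_fix_compl Ω (derGrp G Ω)
  rw [card_orbits_eq_one (G := G)] at h1
  have hcard : (Finset.univ.filter (fun g : G => g ∉ derGrp G Ω)).card + Nat.card (derGrp G Ω)
      = Nat.card G := by
    rw [Nat.card_eq_fintype_card, Nat.card_eq_fintype_card,
      Fintype.card_of_subtype (Finset.univ.filter (fun g : G => g ∈ derGrp G Ω)) (by simp),
      add_comm, Finset.card_filter_add_card_filter_not, Finset.card_univ]
  have hge : (Finset.univ.filter (fun g : G => g ∉ derGrp G Ω)).card
      ≤ ∑ x ∈ Finset.univ.filter (fun g : G => g ∉ derGrp G Ω), Nat.card (fixedBy Ω x) := by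
    rw [Finset.card_eq_sum_ones]
    refine Finset.sum_le_sum fun x hx => one_le_card_fixedBy fun hx' => ?_
    exact (Finset.mem_filter.1 hx).2 (mem_derGrp_of_forall_ne hx')
  have hpos : 0 < Nat.card (derGrp G Ω) := Nat.card_pos
  have : Nat.card (orbitRel.Quotient (derGrp G Ω) Ω) ≤ 1 := by
    by_contra hc
    have : 2 * Nat.card (derGrp G Ω)
        ≤ Nat.card (orbitRel.Quotient (derGrp G Ω) Ω) * Nat.card (derGrp G Ω) :=
      Nat.mul_le_mul_right _ (by omega)
    omega
  have hss := Finite.card_le_one_iff_subsingleton.1 this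
  refine ⟨fun x y => ?_⟩
  have := Quotient.exact' (Subsingleton.elim (α := orbitRel.Quotient (derGrp G Ω) Ω)
    (Quotient.mk'' y) (Quotient.mk'' x))
  exact mem_orbit_iff.1 this

theorem card_fixedBy_eq_one_of_notMem {g : G} (hg : g ∉ derGrp G Ω) :
    Nat.card (fixedBy Ω g) = 1 := by
  have : Fintype G := Fintype.ofFinite G
  rcases isEmpty_or_nonempty Ω with h | h
  · exact absurd (mem_derGrp_of_forall_ne fun ω => isEmptyElim ω) hg
  have := derGrp_transitive (G := G) (Ω := Ω)
  have h1 := sum_fix_compl Ω (derGrp G Ω)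
  rw [card_orbits_eq_one, card_orbits_eq_one] at h1
  have hcard : (Finset.univ.filter (fun g : G => g ∉ derGrp G Ω)).card + Nat.card (derGrp G Ω)
      = Nat.card G := by
    rw [Nat.card_eq_fintype_card, Nat.card_eq_fintype_card,
      Fintype.card_of_subtype (Finset.univ.filter (fun g : G => g ∈ derGrp G Ω)) (by simp),
      add_comm, Finset.card_filter_add_card_filter_not, Finset.card_univ]
  by_contra hne
  have hlt : (Finset.univ.filter (fun g : G => g ∉ derGrp G Ω)).card
      < ∑ x ∈ Finset.univ.filter (fun g : G => g ∉ derGrp G Ω), Nat.card (fixedBy Ω x) := by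
    rw [Finset.card_eq_sum_ones]
    refine Finset.sum_lt_sum (fun x hx => one_le_card_fixedBy fun hx' =>
      (Finset.mem_filter.1 hx).2 (mem_derGrp_of_forall_ne hx')) ⟨g, by simpa using hg, ?_⟩
    have := one_le_card_fixedBy fun hx' : ∀ ω : Ω, g • ω ≠ ω => hg (mem_derGrp_of_forall_ne hx')
    omega
  omega

theorem mem_of_two_fixed {g : G} {a b : Ω} (hab : a ≠ b) (ha : g • a = a) (hb : g • b = b) :
    g ∈ derGrp G Ω := by
  by_contra hg
  obtain ⟨hss, -⟩ := Nat.card_eq_one_iff_unique.1 (card_fixedBy_eq_one_of_notMem hg)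
  exact hab (congrArg Subtype.val (@Subsingleton.elim _ hss
    (⟨a, ha⟩ : fixedBy Ω g) ⟨b, hb⟩))

omit [Finite G] [Finite Ω] htr in
theorem card_fixedBy_prod (g : G) :
    Nat.card (fixedBy (Ω × Ω) g) = Nat.card (fixedBy Ω g) * Nat.card (fixedBy Ω g) := by
  rw [← Nat.card_prod]
  exact Nat.card_congr
    { toFun := fun x => (⟨x.1.1, congrArg Prod.fst x.2⟩, ⟨x.1.2, congrArg Prod.snd x.2⟩)
      invFun := fun x => ⟨(x.1.1, x.2.1), Prod.ext x.1.2 x.2.2⟩
      left_inv := fun _ => rfl
      right_inv := fun _ => rfl }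

theorem rank_formula :
    Nat.card (orbitRel.Quotient (derGrp G Ω) (Ω × Ω)) - 1 =
      (Nat.card (orbitRel.Quotient G (Ω × Ω)) - 1) * (derGrp G Ω).index := by
  have : Fintype G := Fintype.ofFinite G
  have h1 := sum_fix_compl (Ω × Ω) (derGrp G Ω)
  have h2 : (∑ g ∈ Finset.univ.filter (fun g : G => g ∉ derGrp G Ω),
      Nat.card (fixedBy (Ω × Ω) g))
      = (Finset.univ.filter (fun g : G => g ∉ derGrp G Ω)).card := by
    rw [Finset.card_eq_sum_ones]
    refine Finset.sum_congr rfl fun g hg => ?_
    rw [card_fixedBy_prod, card_fixedBy_eq_one_of_notMem (Finset.mem_filter.1 hg).2]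
  have hcard : (Finset.univ.filter (fun g : G => g ∉ derGrp G Ω)).card + Nat.card (derGrp G Ω)
      = Nat.card G := by
    rw [Nat.card_eq_fintype_card, Nat.card_eq_fintype_card,
      Fintype.card_of_subtype (Finset.univ.filter (fun g : G => g ∈ derGrp G Ω)) (by simp),
      add_comm, Finset.card_filter_add_card_filter_not, Finset.card_univ]
  rw [h2] at h1
  have hi : (derGrp G Ω).index * Nat.card (derGrp G Ω) = Nat.card G :=
    Subgroup.index_mul_card _
  have hpos : 0 < Nat.card (derGrp G Ω) := Nat.card_pos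
  rw [← hi] at h1 hcard
  set N := Nat.card (derGrp G Ω)
  set R := Nat.card (orbitRel.Quotient G (Ω × Ω))
  set RD := Nat.card (orbitRel.Quotient (derGrp G Ω) (Ω × Ω))
  set i := (derGrp G Ω).index
  have key : RD + i = R * i + 1 := by
    have : (RD + i) * N = (R * i + 1) * N := by
      rw [add_mul, add_mul, one_mul, mul_assoc]
      omega
    exact Nat.eq_of_mul_eq_mul_right hpos this
  rcases Nat.eq_zero_or_pos R with hR | hR
  · rw [hR] at key ⊢
    have : i ≠ 0 := Subgroup.index_ne_zero_of_finite
    omega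
  · rw [Nat.sub_mul, one_mul]
    have := Nat.le_mul_of_pos_left i hR
    omega

omit htr in
/-- If every point stabilizer lies in `L` then `[H:L]` divides the degree. -/
theorem dvd_card_of_stabilizer_le (L : Subgroup G) (h : ∀ x : Ω, stabilizer G x ≤ L) :
    L.index ∣ Nat.card Ω := by
  rw [Nat.card_congr (selfEquivSigmaOrbitsQuotientStabilizer G Ω)]
  have : Fintype (orbitRel.Quotient G Ω) := Fintype.ofFinite _
  rw [Nat.card_sigma]
  exact Finset.dvd_sum fun q _ => Subgroup.index_dvd_of_le (h _)

/-- A subgroup containing a point stabilizer meets `D` in a subgroup of index `[G:D]`. -/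
theorem stabilizer_derGrp_index (a : Ω) (H : Subgroup G) (hH : stabilizer G a ≤ H) :
    ((derGrp G Ω).subgroupOf H).index = (derGrp G Ω).index := by
  have := derGrp_transitive (G := G) (Ω := Ω)
  have htop : H ⊔ derGrp G Ω = ⊤ := by
    rw [eq_top_iff]
    intro g _
    obtain ⟨⟨d, hd⟩, hda⟩ := exists_smul_eq (derGrp G Ω) a (g • a)
    replace hda : d • a = g • a := hda
    have hs : d⁻¹ * g ∈ H := hH (by rw [mem_stabilizer_iff, mul_smul, ← hda, inv_smul_smul])
    rw [show g = d * (d⁻¹ * g) by group]
    exact mul_mem (Subgroup.mem_sup_right hd) (Subgroup.mem_sup_left hs)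
  show (derGrp G Ω).relIndex H = _
  rw [← Subgroup.relIndex_sup_right, sup_comm, ← Subgroup.relIndex_top_right]
  rw [sup_comm] at htop
  rw [htop]

end Cfsg.Agent.Derangement
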